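import Mathlib
import Groth.Agent.Lib.Helper85.KrullAkizukiField

/-!
# Integral closures in fields which are Noetherian by Krull–Akizuki (helper9)
-/

universe u

namespace Groth.Agent.Lib.Helper9.IntClNoeth

open Groth.Agent.Lib.Helper85

/-- Let `B` be a domain of dimension `≤ 1` and `F` a field over `B`.  If `F` is the field of
fractions of the image of a Noetherian ring `R` whose image contains that of `B` and is integral
over `B`, then the integral closure of `B` in `F` is Noetherian. -/
theorem isNoetherianRing_integralClosure_field (B F : Type u) [CommRing B] [IsDomain B]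
    [Ring.DimensionLEOne B] [Field F] [Algebra B F]
    (R : Type u) [CommRing R] [IsNoetherianRing R] (ψ : R →+* F)
    (hB : ∀ b : B, algebraMap B F b ∈ ψ.range)
    (hint : ∀ r : R, IsIntegral B (ψ r))
    (hfrac : ∀ x : F, ∃ r s : R, ψ s ≠ 0 ∧ x * ψ s = ψ r) :
    IsNoetherianRing (integralClosure B F) := by
  classical
  obtain ⟨R₀, hR₀⟩ : ∃ R₀ : Subring F, R₀ = ψ.range := ⟨_, rfl⟩
  have hmemR₀ : ∀ x : F, x ∈ R₀ ↔ ∃ r, ψ r = x := fun x => by rw [hR₀]; exact RingHom.mem_range
  haveI : IsNoetherianRing R₀ := by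
    subst hR₀
    exact isNoetherianRing_of_surjective R _ ψ.rangeRestrict ψ.rangeRestrict_surjective
  letI algBR₀ : Algebra B R₀ :=
    ((algebraMap B F).codRestrict R₀ (fun b => (hmemR₀ _).mpr (RingHom.mem_range.mp (hB b)))).toAlgebra
  haveI towBR₀F : IsScalarTower B R₀ F := IsScalarTower.of_algebraMap_eq (fun _ => rfl)
  have hintR₀ : ∀ x : R₀, IsIntegral B (x : F) := by
    intro x
    obtain ⟨r, hr⟩ := (hmemR₀ _).mp x.2
    rw [← hr]; exact hint r
  haveI : Algebra.IsIntegral B R₀ := ⟨fun x =>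
    (isIntegral_algebraMap_iff (A := R₀) (B := F) Subtype.val_injective).mp (hintR₀ x)⟩
  haveI : Ring.DimensionLEOne R₀ := Ring.DimensionLEOne.of_isIntegral B R₀
  haveI : FaithfulSMul R₀ F := (faithfulSMul_iff_algebraMap_injective R₀ F).mpr Subtype.val_injective
  haveI : IsFractionRing R₀ F := by
    apply IsFractionRing.of_field
    intro z
    obtain ⟨r, s, hs, hz⟩ := hfrac z
    refine ⟨⟨ψ r, (hmemR₀ _).mpr ⟨r, rfl⟩⟩, ⟨ψ s, (hmemR₀ _).mpr ⟨s, rfl⟩⟩, ?_⟩
    show z = ψ r / ψ s
    rw [eq_div_iff hs, hz]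
  letI algR₀A : Algebra R₀ (integralClosure B F) :=
    (R₀.subtype.codRestrict (integralClosure B F) (fun x => hintR₀ x)).toAlgebra
  haveI towR₀AF : IsScalarTower R₀ (integralClosure B F) F :=
    IsScalarTower.of_algebraMap_eq (fun _ => rfl)
  exact KrullAkizuki.sandwich_isNoetherianRing R₀ F F (integralClosure B F) Subtype.val_injective

end Groth.Agent.Lib.Helper9.IntClNoeth
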