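import Mathlib

/-!
# Integral closure in a reduced Artinian ring (helper9)
-/

universe u

namespace Groth.Agent.Lib.Helper9.IntClNoeth

open Polynomial

/-- The integral closure in a reduced Artinian ring is Noetherian as soon as the integral closures
in its residue fields are. -/
theorem isNoetherianRing_integralClosure_of_quotients (B L' : Type u) [CommRing B] [CommRing L']
    [Algebra B L'] [IsArtinianRing L'] [IsReduced L']
    (h : ∀ I : MaximalSpectrum L', IsNoetherianRing (integralClosure B (L' ⧸ I.asIdeal))) :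
    IsNoetherianRing (integralClosure B L') := by
  classical
  haveI : Fintype (MaximalSpectrum L') := Fintype.ofFinite _
  obtain ⟨e, he⟩ : ∃ e : L' ≃+* (∀ I : MaximalSpectrum L', L' ⧸ I.asIdeal),
      ∀ x I, e x I = Ideal.Quotient.mk I.asIdeal x :=
    ⟨(IsArtinianRing.equivPi L').toRingEquiv, fun x I => rfl⟩
  have hmk : ∀ (I : MaximalSpectrum L') (x : L'), IsIntegral B x →
      IsIntegral B (Ideal.Quotient.mk I.asIdeal x) := fun I x hx =>
    hx.map (Ideal.Quotient.mkₐ B I.asIdeal)
  obtain ⟨Ψ, hΨ⟩ : ∃ Ψ : integralClosure B L' →+*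
      ∀ I : MaximalSpectrum L', integralClosure B (L' ⧸ I.asIdeal),
      ∀ x I, ((Ψ x I : integralClosure B (L' ⧸ I.asIdeal)) : L' ⧸ I.asIdeal) =
        Ideal.Quotient.mk I.asIdeal (x : L') :=
    ⟨Pi.ringHom (fun I => ((Ideal.Quotient.mk I.asIdeal).comp
        (integralClosure B L').val.toRingHom).codRestrict (integralClosure B (L' ⧸ I.asIdeal))
        (fun x => hmk I x x.2)), fun x I => rfl⟩
  have hinj : Function.Injective Ψ := by
    intro x y hxy
    apply Subtype.ext
    apply e.injective
    funext I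
    rw [he, he, ← hΨ, ← hΨ, hxy]
  have hsurj : Function.Surjective Ψ := by
    intro y
    have hy : ∀ I, ∃ p : B[X], p.Monic ∧
        eval₂ (algebraMap B (L' ⧸ I.asIdeal)) (y I : L' ⧸ I.asIdeal) p = 0 := fun I => (y I).2
    choose f hf hf0 using hy
    obtain ⟨x, hx⟩ : ∃ x : L', x = e.symm (fun I => (y I : L' ⧸ I.asIdeal)) := ⟨_, rfl⟩
    have hxI : ∀ I, Ideal.Quotient.mk I.asIdeal x = y I := fun I => by
      rw [← he, hx, e.apply_symm_apply]
    have hxint : IsIntegral B x := by
      refine ⟨∏ I, f I, monic_prod_of_monic _ _ (fun I _ => hf I), ?_⟩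
      apply e.injective
      rw [map_zero]
      funext J
      rw [he]
      have h1 : Ideal.Quotient.mk J.asIdeal (eval₂ (algebraMap B L') x (∏ I, f I)) =
          eval₂ (algebraMap B (L' ⧸ J.asIdeal)) (Ideal.Quotient.mk J.asIdeal x) (∏ I, f I) := by
        rw [hom_eval₂]
        rfl
      rw [h1, hxI, eval₂_finset_prod]
      exact Finset.prod_eq_zero (Finset.mem_univ J) (hf0 J)
    refine ⟨⟨x, hxint⟩, ?_⟩
    funext I
    apply Subtype.ext
    rw [hΨ]
    exact hxI I
  haveI : IsNoetherianRing (∀ I : MaximalSpectrum L', integralClosure B (L' ⧸ I.asIdeal)) :=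
    inferInstance
  exact isNoetherianRing_of_ringEquiv _ (RingEquiv.ofBijective Ψ ⟨hinj, hsurj⟩).symm

end Groth.Agent.Lib.Helper9.IntClNoeth
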