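import Mathlib
import Groth.Agent.Lib.Helper9.IntClNoeth.Field
import Groth.Agent.Lib.Helper9.IntClNoeth.Product

/-!
# Noetherianity of integral closures after algebraic extension of the base DVR (helper9)
-/

universe u

open TensorProduct

namespace Groth.Agent.Lib.Helper9.IntClNoeth

section Frac

variable {R F : Type*} [CommRing R] [Field F] (ψ : R →+* F)

/-- the fractions of the image of a ring in a field. -/
def IsFrac (x : F) : Prop := ∃ r s : R, ψ s ≠ 0 ∧ x * ψ s = ψ r

theorem IsFrac.add {x y : F} (hx : IsFrac ψ x) (hy : IsFrac ψ y) : IsFrac ψ (x + y) := by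
  obtain ⟨r₁, s₁, h₁, e₁⟩ := hx
  obtain ⟨r₂, s₂, h₂, e₂⟩ := hy
  refine ⟨r₁ * s₂ + r₂ * s₁, s₁ * s₂, ?_, ?_⟩
  · rw [map_mul]; exact mul_ne_zero h₁ h₂
  · rw [map_add, map_mul, map_mul, map_mul, ← e₁, ← e₂]; ring

theorem IsFrac.mul {x y : F} (hx : IsFrac ψ x) (hy : IsFrac ψ y) : IsFrac ψ (x * y) := by
  obtain ⟨r₁, s₁, h₁, e₁⟩ := hx
  obtain ⟨r₂, s₂, h₂, e₂⟩ := hy
  refine ⟨r₁ * r₂, s₁ * s₂, ?_, ?_⟩
  · rw [map_mul]; exact mul_ne_zero h₁ h₂
  · rw [map_mul, map_mul, ← e₁, ← e₂]; ring

theorem IsFrac.zero : IsFrac ψ (0 : F) := ⟨0, 1, by rw [map_one]; exact one_ne_zero, by simp⟩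

theorem IsFrac.of_mul_eq {x : F} {r s : R} (hs : ψ s ≠ 0) (h : x * ψ s = ψ r) : IsFrac ψ x :=
  ⟨r, s, hs, h⟩

end Frac

section Artinian

variable (K L K' L' : Type u) [Field K] [Field L] [Field K'] [CommRing L'] [Algebra K L]
  [Algebra K K'] [Algebra K L'] [Algebra L L'] [Algebra K' L']
  [Algebra.EssFiniteType K L] [Algebra.IsAlgebraic K K']
  (q : L ⊗[K] K' →ₐ[K] L') (hq : Function.Surjective q)
  (hqL : ∀ y : L, q (y ⊗ₜ 1) = algebraMap L L' y)

include hq hqL in
/-- a quotient of `L ⊗[K] K'`, for `L/K` finitely generated and `K'/K` algebraic, is Artinian. -/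
theorem isArtinianRing_of_surjective_tensor : IsArtinianRing L' := by
  haveI hN1 : IsNoetherianRing (K' ⊗[K] L) := Algebra.EssFiniteType.isNoetherianRing K' (K' ⊗[K] L)
  haveI hN2 : IsNoetherianRing (L ⊗[K] K') :=
    isNoetherianRing_of_ringEquiv _ (Algebra.TensorProduct.comm K K' L).toRingEquiv
  haveI hN3 : IsNoetherianRing L' := isNoetherianRing_of_surjective _ _ q.toRingHom hq
  haveI : Algebra.IsIntegral K K' := Algebra.IsAlgebraic.isIntegral
  haveI hint : Algebra.IsIntegral L (L ⊗[K] K') := inferInstance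
  have hcomp : q.toRingHom.comp (algebraMap L (L ⊗[K] K')) = algebraMap L L' := by
    ext y
    exact hqL y
  haveI hintL' : Algebra.IsIntegral L L' := by
    refine ⟨fun x => ?_⟩
    obtain ⟨t, rfl⟩ := hq x
    exact (hint.isIntegral t).map_of_comp_eq (RingHom.id L) q.toRingHom (by rw [RingHom.comp_id, hcomp])
  haveI : Ring.KrullDimLE 0 L' := by
    apply Ring.KrullDimLE.mk₀
    intro I hI
    apply Ideal.isMaximal_of_isIntegral_of_isMaximal_comap (R := L) I
    haveI : (I.comap (algebraMap L L')).IsPrime := Ideal.comap_isPrime _ I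
    exact Ideal.IsPrime.isMaximal' inferInstance
  exact IsNoetherianRing.isArtinianRing_of_krullDimLE_zero

end Artinian

section Main

variable (A B K L : Type u) [CommRing A] [IsDomain A]
    [IsDiscreteValuationRing A] [CommRing B] [IsDomain B] [IsDiscreteValuationRing B] [Algebra A B]
    [Algebra.EssFiniteType A B]
    [Field K] [Field L] [Algebra A K] [IsFractionRing A K] [Algebra B L] [IsFractionRing B L]
    [Algebra K L] [Algebra A L] [IsScalarTower A K L] [IsScalarTower A B L]
    (K' : Type u) [Field K'] [Algebra K K'] [Algebra A K'] [IsScalarTower A K K']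
    [Algebra.IsAlgebraic K K']
    (L' : Type u) [CommRing L'] [IsReduced L'] [Algebra K L'] [Algebra L L'] [Algebra K' L']
    [Algebra B L']
    [IsScalarTower K L L'] [IsScalarTower K K' L'] [IsScalarTower B L L']

set_option maxHeartbeats 1000000 in
/-- the integral closure of `B` in `(L ⊗[K] K')_red` is Noetherian when that of `A` in `K'` is. -/
theorem isNoetherianRing_integralClosure_tensor
    (hA' : IsNoetherianRing (integralClosure A K'))
    (q : L ⊗[K] K' →ₐ[K] L') (hq : Function.Surjective q)
    (hqL : ∀ y : L, q (y ⊗ₜ 1) = algebraMap L L' y)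
    (hqK : ∀ z : K', q (1 ⊗ₜ z) = algebraMap K' L' z) :
    IsNoetherianRing (integralClosure B L') := by
  classical
  -- `L/K` is essentially of finite type
  haveI e1 : Algebra.EssFiniteType B L := Algebra.EssFiniteType.of_isLocalization L (nonZeroDivisors B)
  haveI e2 : Algebra.EssFiniteType A L := Algebra.EssFiniteType.comp A B L
  haveI e3 : Algebra.EssFiniteType K L := Algebra.EssFiniteType.of_comp A K L
  haveI hArt : IsArtinianRing L' := isArtinianRing_of_surjective_tensor K L K' L' q hq hqL
  -- the `A`-algebra structure on `L'`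
  letI algAL' : Algebra A L' := ((algebraMap B L').comp (algebraMap A B)).toAlgebra
  haveI towABL' : IsScalarTower A B L' := IsScalarTower.of_algebraMap_eq (fun _ => rfl)
  have hAK' : ∀ a : A, algebraMap K' L' (algebraMap A K' a) = algebraMap A L' a := by
    intro a
    show _ = algebraMap B L' (algebraMap A B a)
    rw [IsScalarTower.algebraMap_apply A K K', ← IsScalarTower.algebraMap_apply K K' L',
      IsScalarTower.algebraMap_apply K L L', ← IsScalarTower.algebraMap_apply A K L,
      IsScalarTower.algebraMap_apply A B L, ← IsScalarTower.algebraMap_apply B L L']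
  haveI towAK'L' : IsScalarTower A K' L' := IsScalarTower.of_algebraMap_eq (fun a => (hAK' a).symm)
  -- the Noetherian ring `A' ⊗[A] B`
  haveI := hA'
  haveI hNR : IsNoetherianRing ((integralClosure A K') ⊗[A] B) :=
    Algebra.EssFiniteType.isNoetherianRing (integralClosure A K') ((integralClosure A K') ⊗[A] B)
  obtain ⟨g, hg⟩ : ∃ g : (integralClosure A K') →ₐ[A] L', ∀ x, g x = algebraMap K' L' (x : K') :=
    ⟨(IsScalarTower.toAlgHom A K' L').comp (integralClosure A K').val, fun x => rfl⟩
  obtain ⟨Φ, hΦ⟩ : ∃ Φ : (integralClosure A K') ⊗[A] B →ₐ[A] L',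
      ∀ x b, Φ (x ⊗ₜ b) = algebraMap K' L' (x : K') * algebraMap B L' b :=
    ⟨Algebra.TensorProduct.productMap g (IsScalarTower.toAlgHom A B L'), fun x b => by
      rw [Algebra.TensorProduct.productMap_apply_tmul, hg]; rfl⟩
  apply isNoetherianRing_integralClosure_of_quotients
  intro I
  letI : Field (L' ⧸ I.asIdeal) := Ideal.Quotient.field I.asIdeal
  obtain ⟨ψ, hψ⟩ : ∃ ψ : (integralClosure A K') ⊗[A] B →+* L' ⧸ I.asIdeal,
      ∀ t, ψ t = Ideal.Quotient.mk I.asIdeal (Φ t) :=
    ⟨(Ideal.Quotient.mk I.asIdeal).comp Φ.toRingHom, fun t => rfl⟩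
  have hmkB : ∀ b : B, algebraMap B (L' ⧸ I.asIdeal) b =
      Ideal.Quotient.mk I.asIdeal (algebraMap B L' b) := fun b => rfl
  have hψ1 : ∀ b : B, ψ (1 ⊗ₜ b) = algebraMap B (L' ⧸ I.asIdeal) b := by
    intro b
    rw [hψ, hΦ, hmkB]
    have : ((1 : integralClosure A K') : K') = 1 := rfl
    rw [this, map_one, one_mul]
  -- injectivity of `B → F`
  have hinjBF : Function.Injective (algebraMap B (L' ⧸ I.asIdeal)) := by
    have h1 : algebraMap B (L' ⧸ I.asIdeal) =
        ((Ideal.Quotient.mk I.asIdeal).comp (algebraMap L L')).comp (algebraMap B L) := by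
      ext b
      rw [hmkB, IsScalarTower.algebraMap_apply B L L']
      rfl
    have h2 : Function.Injective ((Ideal.Quotient.mk I.asIdeal).comp (algebraMap L L')) :=
      RingHom.injective _
    rw [h1, RingHom.coe_comp]
    exact h2.comp (IsFractionRing.injective B L)
  refine isNoetherianRing_integralClosure_field B (L' ⧸ I.asIdeal)
    ((integralClosure A K') ⊗[A] B) ψ (fun b => ⟨1 ⊗ₜ b, hψ1 b⟩) ?_ ?_
  · -- integrality
    intro r
    rw [hψ]
    refine IsIntegral.map (Ideal.Quotient.mkₐ B I.asIdeal) ?_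
    induction r using TensorProduct.induction_on with
    | zero => rw [map_zero]; exact isIntegral_zero
    | tmul x b =>
      rw [hΦ]
      refine IsIntegral.mul ?_ isIntegral_algebraMap
      have hx : IsIntegral A (x : K') := x.2
      have hx' : IsIntegral A (algebraMap K' L' (x : K')) :=
        hx.map (IsScalarTower.toAlgHom A K' L')
      exact hx'.tower_top
    | add x y hx hy => rw [map_add]; exact hx.add hy
  · -- fractions
    intro x
    obtain ⟨y, rfl⟩ := Ideal.Quotient.mk_surjective x
    obtain ⟨t, rfl⟩ := hq y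
    show IsFrac ψ _
    induction t using TensorProduct.induction_on with
    | zero => rw [map_zero, map_zero]; exact IsFrac.zero ψ
    | tmul l k' =>
      have h1 : q (l ⊗ₜ[K] k') = algebraMap L L' l * algebraMap K' L' k' := by
        have : l ⊗ₜ[K] k' = (l ⊗ₜ[K] (1 : K')) * ((1 : L) ⊗ₜ[K] k') := by
          rw [Algebra.TensorProduct.tmul_mul_tmul, mul_one, one_mul]
        rw [this, map_mul, hqL, hqK]
      rw [h1, map_mul]
      refine IsFrac.mul ψ ?_ ?_
      · -- `l = b / s`
        obtain ⟨b, s, hs, rfl⟩ := IsFractionRing.div_surjective (A := B) l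
        have hs0 : s ≠ 0 := nonZeroDivisors.ne_zero hs
        refine IsFrac.of_mul_eq ψ (r := 1 ⊗ₜ b) (s := 1 ⊗ₜ s) ?_ ?_
        · rw [hψ1]; exact fun h => hs0 (hinjBF (by rw [h, map_zero]))
        · rw [hψ1, hψ1, hmkB, hmkB, ← map_mul, IsScalarTower.algebraMap_apply B L L' s,
            IsScalarTower.algebraMap_apply B L L' b, ← map_mul]
          congr 2
          rw [div_mul_cancel₀]
          exact fun h => hs0 (IsFractionRing.injective B L (by rw [h, map_zero]))
      · -- `k' = a' / t`
        have halg : IsAlgebraic A k' :=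
          (IsFractionRing.isAlgebraic_iff A K K').mpr (Algebra.IsAlgebraic.isAlgebraic k')
        obtain ⟨t, ht0, hint⟩ := halg.exists_integral_multiple
        refine IsFrac.of_mul_eq ψ (r := (⟨t • k', hint⟩ : integralClosure A K') ⊗ₜ (1 : B))
          (s := 1 ⊗ₜ (algebraMap A B t)) ?_ ?_
        · rw [hψ1, hmkB]
          have h3 : algebraMap B L' (algebraMap A B t) = algebraMap K' L' (algebraMap A K' t) :=
            (hAK' t).symm
          rw [h3]
          have h4 : Function.Injective ((Ideal.Quotient.mk I.asIdeal).comp (algebraMap K' L')) :=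
            RingHom.injective _
          intro h
          have h5 : algebraMap A K' t = 0 := h4 (by rw [map_zero]; exact h)
          have h6 : Function.Injective (algebraMap A K') := by
            rw [IsScalarTower.algebraMap_eq A K K']
            exact (algebraMap K K').injective.comp (IsFractionRing.injective A K)
          exact ht0 (h6 (by rw [h5, map_zero]))
        · rw [hψ1, hψ, hΦ, hmkB, map_one, mul_one, ← map_mul]
          congr 1
          have h3 : algebraMap B L' (algebraMap A B t) = algebraMap K' L' (algebraMap A K' t) :=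
            (hAK' t).symm
          rw [h3, ← map_mul]
          congr 1
          show k' * algebraMap A K' t = t • k'
          rw [Algebra.smul_def, mul_comm]
    | add x y hx hy => rw [map_add, map_add]; exact IsFrac.add ψ hx hy

end Main

end Groth.Agent.Lib.Helper9.IntClNoeth
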